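import Cfsg.Agent.H954.LD.Row
import Cfsg.Agent.H713.Spor.Small
import Cfsg.Agent.H55.OutGen

/-!
# S4910: the rows `M24`, `Co2`, `Co3` (helper587)

An irreducible character of degree 23, and `Out = 1`.
-/

set_option autoImplicit false

namespace Cfsg.Agent.H587.LD

open Cfsg Cfsg.Agent.H954.LD Cfsg.Agent.Characters.Core Cfsg.Agent.H419.LeechFix Cfsg.Agent.H419.LeechIrr

universe u

theorem copRow_of_23 {S : Type u} [Group S] [Finite S] [IsSimpleGroup S] (hna : ¬ IsMulCommutative S) {T : Type*}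
    [Group T] (e : S ≃* T) (hout : Nat.card (Out T) = 1) (hχ : ∃ χ : IrrCharacter T, charDegree (χ : T → ℂ) = 23) :
    CopRow S := by
  obtain ⟨χ, hχ⟩ := hχ
  have hS : Nat.card (Out S) = 1 := by rw [H55.OutGen.card_out_congr e, hout]
  refine copRow_one_pp hna hS (α := ⟨(χ : T → ℂ) ∘ e.toMonoidHom, isIrr_comp e.toMonoidHom e.surjective χ.2⟩) ?_
  have h1 : charDegree ((χ : T → ℂ) ∘ e.toMonoidHom) = 23 := by
    rw [← hχ]
    unfold charDegree
    rw [Function.comp_apply, map_one]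
  change IsPrimePow (charDegree ((χ : T → ℂ) ∘ e.toMonoidHom))
  rw [h1]
  exact (by norm_num : Nat.Prime 23).isPrimePow

theorem exists_irr_M24 : ∃ χ : IrrCharacter M24, charDegree (χ : M24 → ℂ) = 23 := by
  have h5 := Cfsg.Agent.S0366.result
  obtain ⟨θ, hθ⟩ := Cfsg.Agent.H419.TwoTrans.exists_irr (G := M24) GolayPt (MulAction.isMultiplyPretransitive_of_le (n := 5) (by norm_num)
      (by rw [Nat.card_eq_fintype_card]; decide)) (by rw [Nat.card_eq_fintype_card]; decide)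
  refine ⟨θ, ?_⟩
  have h1 := hθ 1
  rw [MulAction.fixedBy_one_eq_univ, Nat.card_coe_set_eq, Set.ncard_univ,
    Cfsg.Agent.Blocks.Basic.irr_one_eq_charDegree θ.2] at h1
  have h4 : ((charDegree (θ : M24 → ℂ) : ℕ) : ℂ) = ((23 : ℕ) : ℂ) := by
    rw [h1, Nat.card_eq_fintype_card, show Fintype.card GolayPt = 24 by decide]
    norm_num
  exact_mod_cast h4

theorem deg_of_lchi {G : Type*} [Group G] {f : G →* Co0} {μ : IrrCharacter G} (_ : Finite G)
    (hμ : ∀ g, lchi f g = 1 + (μ : G → ℂ) g) : charDegree (μ : G → ℂ) = 23 := by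
  have h1 := hμ 1
  have h6 : lchi f 1 = 24 := by
    rw [lchi, map_one, Cfsg.Agent.SigZeroCo2.Lin.tr8_one]
    norm_num
  rw [h6, Cfsg.Agent.Blocks.Basic.irr_one_eq_charDegree μ.2] at h1
  have h2 : (24 : ℂ) = ((1 + charDegree (μ : G → ℂ) : ℕ) : ℂ) := by rw [h1]; push_cast; ring
  have h9 : 24 = 1 + charDegree (μ : G → ℂ) := by exact_mod_cast h2
  omega

theorem exists_irr_Co3 : ∃ χ : IrrCharacter Spor.Co3, charDegree (χ : Spor.Co3 → ℂ) = 23 := by
  obtain ⟨hs, hcard⟩ := Cfsg.Agent.OddHalf.D8.RowCo3.card_of (K := Spor.Co3) ⟨MulEquiv.refl _⟩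
  have hfin : Finite Spor.Co3 := Nat.finite_of_card_ne_zero (by rw [hcard]; norm_num)
  obtain ⟨μ, hμ⟩ := irr23 Cfsg.Agent.H419.Spor.Co3.inc Cfsg.Agent.H419.Spor.Co3.inc_injective
    (by rw [hcard]; norm_num) Cfsg.Agent.H419.Spor.Co3.k ⟨Cfsg.Agent.H419.Spor.Co3.y14, fun h => by
      have := Cfsg.Agent.H419.Spor.Co3.order
      rw [h, orderOf_one] at this
      norm_num at this⟩ Cfsg.Agent.H419.Spor.Co3.inc_k (w := Spor.leechV) (fun h => by
        have := congrArg (fun v : leechLattice => (v : GolayPt → ℤ) none) h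
        exact absurd this (by decide)) Cfsg.Agent.H419.Spor.Co3.inc_fix
  exact ⟨μ, deg_of_lchi hfin hμ⟩

theorem exists_irr_Co2 : ∃ χ : IrrCharacter Spor.Co2, charDegree (χ : Spor.Co2 → ℂ) = 23 := by
  have hs : IsSimpleGroup Spor.Co2 := Cfsg.Agent.Schreier.CoTwoStab.isSimpleGroup
  have hcard : Nat.card Spor.Co2 = 42305421312000 := Cfsg.Agent.BiChar.Small.card_Co2
  have hfin : Finite Spor.Co2 := Nat.finite_of_card_ne_zero (by rw [hcard]; norm_num)
  obtain ⟨μ, hμ⟩ := irr23 Cfsg.Agent.H419.Spor.Co2.inc Cfsg.Agent.H419.Spor.Co2.inc_injective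
    (by rw [hcard]; norm_num) Cfsg.Agent.H419.Spor.Co2.k ⟨Cfsg.Agent.H419.Spor.Co3.y14, fun h => by
      have := Cfsg.Agent.H419.Spor.Co2.order
      rw [h, orderOf_one] at this
      norm_num at this⟩ Cfsg.Agent.H419.Spor.Co2.inc_k (w := Cfsg.Agent.H419.Spor.Co2.leechW) (fun h => by
        have := congrArg (fun v : leechLattice => (v : GolayPt → ℤ) none) h
        exact absurd this (by decide)) Cfsg.Agent.H419.Spor.Co2.inc_fix
  exact ⟨μ, deg_of_lchi hfin hμ⟩

variable {S : Type u} [Group S] [Finite S] [IsSimpleGroup S]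

theorem row_M24 (hna : ¬ IsMulCommutative S) (h : Spor.IsoM24 S) : CopRow S := by
  obtain ⟨e⟩ := h
  exact copRow_of_23 hna e Cfsg.Agent.S2064.result exists_irr_M24

theorem row_Co2 (hna : ¬ IsMulCommutative S) (h : Spor.IsoCo2 S) : CopRow S := by
  obtain ⟨e⟩ := h
  exact copRow_of_23 hna e Cfsg.Agent.S2070.result exists_irr_Co2

theorem row_Co3 (hna : ¬ IsMulCommutative S) (h : Spor.IsoCo3 S) : CopRow S := by
  obtain ⟨e⟩ := h
  exact copRow_of_23 hna e Cfsg.Agent.S2071.result exists_irr_Co3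

end Cfsg.Agent.H587.LD
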